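import Groth.Agent.DiagTorLib.AssocCycle
import Groth.Agent.DiagTorLib.ExtProd
import Groth.Agent.P1InterLib.FibreProd
import Groth.Agent.TorShiftLib.BaseChange
import Groth.Agent.CycExtProdLib.Basic
import Groth.Agent.FibDimLib.Smooth
import Groth.Agent.AlgSpLib.RelDim

/-!
# Intersection with a graph of a flat map
-/

set_option autoImplicit false
set_option backward.isDefEq.respectTransparency false
set_option backward.isDefEq.respectTransparency.types false
set_option linter.style.haveILetI false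

universe u

open CategoryTheory CategoryTheory.Limits AlgebraicGeometry TopologicalSpace Topology
open EquidimLib (stalkPt)
open CycDivLib (primeOf stalkPt_primeOf)
open DiagTorLib (single single_self single_ne)
open TensorProduct

noncomputable section

namespace GraphPullLib

/-- The intersection number with a module flat over the base is a length. -/
theorem chi_eq_length_of_flat {O A : Type u} [CommRing O] [CommRing A] [IsLocalRing A] [IsNoetherianRing A] [Algebra O A] [Module.Flat O A] (N : Ideal O)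
    (I : Ideal A) [Module.Flat O (A ⧸ I)] :
    IntMult.chi A (A ⧸ I) (A ⧸ N.map (algebraMap O A)) =
      ((Module.length A (A ⧸ (I ⊔ N.map (algebraMap O A)))).toNat : ℤ) := by
  let J := N.map (algebraMap O A)
  rw [IntMult.chi, finsum_eq_single _ 0 fun q hq => ?_]
  · obtain ⟨e⟩ := TorShiftLib.nonempty_tor_zero (R := A) (N := A ⧸ J) (A ⧸ I)
    rw [pow_zero, one_mul, e.length_eq,
      (TensorProduct.quotTensorEquivQuotSMul (A ⧸ J) I).length_eq, IntMultRegLib.length_quotient_quotient, sup_comm]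
  · haveI : Subsingleton (DRing.Tor O q (A ⧸ I) (O ⧸ N)) :=
      DiagTorLib.subsingleton_tor_flat_left _ _ (Nat.pos_of_ne_zero hq)
    obtain ⟨φ, hφ⟩ := TorShiftLib.nonempty_restrict_baseChange (A := O) (A' := A) (O ⧸ N) q (A ⧸ I)
    haveI : Subsingleton (DRing.Tor A q (A ⧸ I) (A ⊗[O] (O ⧸ N))) := hφ.2.subsingleton
    obtain ⟨e⟩ := DiagTorLib.nonempty_tor_congr (LinearEquiv.refl A (A ⧸ I)) (Ideal.qoutMapEquivTensorQout A (I := N)) q
    haveI : Subsingleton (DRing.Tor A q (A ⧸ I) (A ⧸ J)) := e.toEquiv.subsingleton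
    rw [Module.length_eq_zero, ENat.toNat_zero, Nat.cast_zero, mul_zero]

variable {K : Type u} [Field K]

/-- A flat map of varieties has the difference of the dimensions as relative dimension. -/
theorem hasRelDim_of_flat {X Y : Scheme.{u}} (gX : X ⟶ Spec (CommRingCat.of K)) (gY : Y ⟶ Spec (CommRingCat.of K))
    [LocallyOfFiniteType gX] [LocallyOfFiniteType gY] [IsIntegral X] [IsIntegral Y] (f : X ⟶ Y) [Flat f]
    (hf : f ≫ gY = gX) (a b : ℕ) (ha : topologicalKrullDim X = a) (hb : topologicalKrullDim Y = b) :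
    ∃ e : ℕ, (e : ℤ) = (a : ℤ) - b ∧ Cyc.HasRelDim f e := by
  haveI : LocallyOfFiniteType f := by
    haveI : LocallyOfFiniteType (f ≫ gY) := hf.symm ▸ inferInstance
    exact locallyOfFiniteType_of_comp f gY
  have key : ∀ x : X, ∃ e : ℕ, (e : ℤ) = (a : ℤ) - b ∧ FlatMor.fibreDimAt f x = e := fun x => by
    obtain ⟨e, he⟩ := UOpenLib.exists_fibreDimAt_eq_nat f x
    have h := FibDimLib.fibreDimAt_comp_of_flat f gY x
    rw [hf, AlgSpLib.fibreDimAt_eq_localDim gX, FibDimLib.localDim_of_irreducible gX, ha,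
      AlgSpLib.fibreDimAt_eq_localDim gY, FibDimLib.localDim_of_irreducible gY, hb, he] at h
    have h' : a = e + b := by exact_mod_cast h
    exact ⟨e, by omega, he⟩
  obtain ⟨e, he, -⟩ := key (genericPoint X)
  refine ⟨e, he, fun η T hT => ?_⟩
  obtain ⟨w, -, hd⟩ := @FibDimLib.exists_generic_of_component (Y.residueField η) _ _
    (f.fiberToSpecResidueField η) (UOpenLib.lft_fiberToSpec f η) _ hT
  obtain ⟨e', he', hfib⟩ := key ((f.fiberι η) w)
  rw [← hd, ← FibDimLib.fibreDimAt_fiberι, hfib, show e' = e by omega]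

variable [IsAlgClosed K] {P X Y : Scheme.{u}} (gP : P ⟶ Spec (CommRingCat.of K)) [Smooth gP] [IsSeparated gP]
  [QuasiCompact gP] [IsIntegral P] [IsIntegral X] (δP : P → ℤ) (hPd : Cyc.DeltaCompat gP δP (fun _ => 0))
  (hP : Cyc.IsSetup P δP) (N : ℤ) (hN : δP (genericPoint P) = N) (δY : Y → ℤ) (hY : Cyc.IsSetup Y δY)
  (q : P ⟶ Y) [Flat q] [LocallyOfFiniteType q] (d : ℕ) (hd : Cyc.HasRelDim q d) (hq : Cyc.DeltaCompat q δP δY)
  (Γ : X ⟶ P) [IsClosedImmersion Γ] [Flat (Γ ≫ q)] [LocallyOfFiniteType (Γ ≫ q)] (δX : X → ℤ)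
  (hΓ : ∀ x, δP (Γ x) = δX x) (e : ℕ) (he : Cyc.HasRelDim (Γ ≫ q) e) (hf : Cyc.DeltaCompat (Γ ≫ q) δX δY)
  (hdim : δX (genericPoint X) + d - N = e)

include gP hPd hP hN hY hd hq hΓ he hf hdim in
/-- The product of the graph with the pullback of one point. -/
theorem interProd_graph_single (k : ℤ) (y : Y) (hy : δY y = k) (x : X) (hx : δX x = k + e) (hyx : y ⤳ q (Γ x)) :
    IntMult.interProd δP N (single (Γ (genericPoint X))) (Cyc.pullFun q δP δY d (single y)) (Γ x) =
      Cyc.pullFun (Γ ≫ q) δX δY e (single y) x := by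
  classical
  haveI := hP.1
  haveI := hY.1
  let z := Γ x
  let g := Γ (genericPoint X)
  have hg : g ⤳ z := ((genericPoint_spec X).specializes trivial).map Γ.continuous
  let A := P.presheaf.stalk z
  haveI : IsRegularLocalRing A := WeilExtLib.isRegular_stalk_smooth gP z
  have hqle := CycLimLib.delta_le q hq hd
  have hfle := CycLimLib.delta_le (Γ ≫ q) hf he
  have hymono : ∀ {b : Y}, y ⤳ b → δY b ≤ k ∧ (δY b = k → y = b) := fun {b} h => by
    by_cases e : y = b
    · subst e; exact ⟨hy.le, fun _ => rfl⟩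
    · have := (hY.2.2 _ _ h e).1
      exact ⟨by omega, fun h' => by omega⟩
  have hfx : y = q z := by
    refine (hymono hyx).2 ?_
    have h1 := hfle x
    rw [Scheme.Hom.comp_apply] at h1
    have h2 := (hymono hyx).1
    omega
  -- the inverse image of the point
  let Jy := (IntMult.ptIdeal y).comap q
  have hJmem : ∀ u, u ∈ Jy.support ↔ y ⤳ q u := fun u => by
    rw [Scheme.IdealSheafData.support_comap]
    exact DiagTorLib.mem_support_ptIdeal _ _
  have hle : ∀ u ∈ Jy.support, δP u ≤ k + d := fun u hu => by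
    have h1 := hqle u
    have h2 := (hymono ((hJmem u).1 hu)).1
    omega
  let J : Ideal A := IntMult.stalkIdeal Jy z
  let Pg : Ideal A := (primeOf hg).asIdeal
  have hker : Γ.ker = IntMult.ptIdeal g := P1InterLib.ker_eq_ptIdeal Γ
  have hPg : Pg = RingHom.ker (Γ.stalkMap x).hom := by
    rw [← DiagTorLib.stalkIdeal_ker, hker, DiagTorLib.stalkIdeal_ptIdeal hg]
  let S := (DiagTorLib.finite_top_points δP hP Jy (k + d) hle z).toFinset
  let T := S.preimage (stalkPt z) (EquidimLib.stalkPt_injective z).injOn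
  have hT : ∀ Q, Q ∈ T ↔ J ≤ Q.asIdeal ∧ δP (stalkPt z Q) = k + d := fun Q => by
    rw [Finset.mem_preimage, Set.Finite.mem_toFinset, Set.mem_setOf_eq, IntMultRegLib.stalkPt_mem_support_iff]
    exact ⟨fun h => h.2, fun h => ⟨EquidimLib.stalkPt_specializes z Q, h⟩⟩
  have hone : ∀ ω, g ⤳ ω → y ⤳ q ω → ω ⤳ z → ω = z := fun ω h1 h2 h3 => by
    obtain ⟨x', rfl⟩ := Γ.isClosedEmbedding.isClosed_range.stableUnderSpecialization h1 ⟨_, rfl⟩
    by_contra hne
    have h4 := (hP.2.2 _ _ h3 hne).1
    have h5 := hfle x'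
    rw [Scheme.Hom.comp_apply] at h5
    have h6 := (hymono h2).1
    have h7 : δP z = δX x := hΓ x
    have h8 := hΓ x'
    omega
  have hsupp : ∀ Q : PrimeSpectrum A, J ≤ Q.asIdeal → y ⤳ q (stalkPt z Q) := fun Q hQ =>
    (hJmem _).1 ((IntMultRegLib.stalkPt_mem_support_iff _ z Q).2 hQ)
  -- the left side
  have hpull : ∀ u, u ⤳ z → Cyc.pullFun q δP δY d (single y) u ≠ 0 → u ∈ S := by
    intro u hu h
    simp only [Cyc.pullFun] at h
    split_ifs at h with h'
    swap
    · exact absurd rfl h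
    have h2 : q u = y := not_not.1 fun h'' => left_ne_zero_of_mul h (single_ne _ _ h'')
    refine (Set.Finite.mem_toFinset _).2 ⟨hu, (hJmem u).2 (by rw [h2]), ?_⟩
    rw [h', h2, hy]
  have hL : IntMult.interProd δP N (single g) (Cyc.pullFun q δP δY d (single y)) z =
      IntMult.chi A (↑A ⧸ J) (↑A ⧸ Pg) := by
    rw [IntMultRegLib.chi_eq_sum (↑A ⧸ Pg) J (fun Q hQ => ?_) T (fun Q hQ R hR hRQ => ?_) (fun Q hQ hQT => ?_)
      (↑A ⧸ J) fun Q hQ => by rwa [Ideal.annihilator_quotient] at hQ]
    · rw [DiagTorLib.interProd_eq_sum δP N (single g) _ z {g} S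
        (fun v _ h => Finset.mem_singleton.2 (not_not.1 fun h' => h (single_ne _ _ h'))) hpull, Finset.sum_product,
        Finset.sum_singleton]
      refine (Finset.sum_bij (fun Q _ => stalkPt z Q) (fun Q hQ => Finset.mem_preimage.1 hQ)
        (fun a _ b _ e => EquidimLib.stalkPt_injective z e) (fun v hv => ?_) fun Q hQ => ?_).symm
      · obtain ⟨Q, rfl⟩ := EquidimLib.exists_stalkPt ((Set.Finite.mem_toFinset _).1 hv).1
        exact ⟨Q, Finset.mem_preimage.2 hv, rfl⟩
      · obtain ⟨hQ1, hQ2⟩ := (hT Q).1 hQ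
        have hqu : q (stalkPt z Q) = y := by
          refine ((hymono (hsupp Q hQ1)).2 ?_).symm
          have := hqle (stalkPt z Q)
          have := (hymono (hsupp Q hQ1)).1
          omega
        have hgd : δP g = δX (genericPoint X) := hΓ _
        rw [Set.indicator_of_mem (show (g, stalkPt z Q) ∈ {p : P × P | p.1 ⤳ z ∧ p.2 ⤳ z ∧ δP p.1 + δP p.2 - N = δP z} from
          ⟨hg, EquidimLib.stalkPt_specializes z Q, by
            show δP g + δP (stalkPt z Q) - N = δP z
            rw [show δP z = δX x from hΓ x]; omega⟩), single_self, one_mul]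
        have hm : ∀ y', y' = y → IntMult.stalkIdeal (IntMult.ptIdeal y) y' =
            IsLocalRing.maximalIdeal (Y.presheaf.stalk y') := by
          rintro y' rfl
          exact DiagTorLib.stalkIdeal_ptIdeal_self _
        simp only [Cyc.pullFun]
        rw [if_pos (by rw [hQ2, hqu, hy]), show single y (q (stalkPt z Q)) = 1 by rw [hqu, single_self], one_mul,
          P1InterLib.lenAt_stalkQuot, DivDescLib.stalkIdeal_comap, hm _ hqu, IntMult.mult,
          DiagTorLib.stalkIdeal_ptIdeal hg, DiagTorLib.stalkIdeal_ptIdeal (EquidimLib.stalkPt_specializes z Q),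
          DiagTorLib.primeOf_stalkPt]
    · rw [Ideal.annihilator_quotient] at hQ
      have h1 : g ⤳ stalkPt z Q := by
        have := EquidimLib.specializes_stalkPt (x := z) (show primeOf hg ≤ Q from le_sup_right.trans hQ)
        rwa [stalkPt_primeOf] at this
      obtain rfl : Q = IsLocalRing.closedPoint A := EquidimLib.stalkPt_injective z
        ((hone _ h1 (hsupp Q (le_sup_left.trans hQ)) (EquidimLib.stalkPt_specializes z Q)).trans
          Scheme.fromSpecStalk_closedPoint.symm)
      exact IsLocalRing.maximalIdeal.isMaximal _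
    · have h1 := P1InterLib.delta_mono δP hP (EquidimLib.specializes_stalkPt (x := z) (show R ≤ Q from hRQ))
      have h2 := hle _ ((IntMultRegLib.stalkPt_mem_support_iff _ z R).2 hR)
      have h3 := ((hT Q).1 hQ).2
      exact EquidimLib.stalkPt_injective z (h1.2 (by omega))
    · refine DiagTorLib.chi_primes_eq_zero gP δP hPd N hN Q (primeOf hg) (fun ω h1 h2 h3 => ?_) ?_
      · rw [stalkPt_primeOf] at h2
        exact hone ω h2 ((hsupp Q hQ).trans (h1.map q.continuous)) h3
      · have h1 : δP (stalkPt z Q) ≠ k + d := fun e => hQT ((hT Q).2 ⟨hQ, e⟩)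
        have h2 := hle _ ((IntMultRegLib.stalkPt_mem_support_iff _ z Q).2 hQ)
        rw [stalkPt_primeOf, show δP g = δX (genericPoint X) from hΓ _, show δP z = δX x from hΓ x]
        omega
  -- flatness
  let O := Y.presheaf.stalk (q z)
  letI : Algebra O A := (q.stalkMap z).hom.toAlgebra
  haveI : Module.Flat O A := Flat.stalkMap q z
  haveI : Module.Flat O (↑A ⧸ Pg) := by
    have h := DiagTorLib.flat_quotient_ker Γ q x
    rwa [hker, DiagTorLib.stalkIdeal_ptIdeal hg] at h
  have hm : IntMult.stalkIdeal (IntMult.ptIdeal y) (q z) = IsLocalRing.maximalIdeal O := by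
    have h : ∀ y', y' = y → IntMult.stalkIdeal (IntMult.ptIdeal y) y' =
        IsLocalRing.maximalIdeal (Y.presheaf.stalk y') := by
      rintro y' rfl
      exact DiagTorLib.stalkIdeal_ptIdeal_self _
    exact h _ hfx.symm
  have hJ : J = (IsLocalRing.maximalIdeal O).map (algebraMap O A) := by
    show IntMult.stalkIdeal ((IntMult.ptIdeal y).comap q) z = _
    rw [DivDescLib.stalkIdeal_comap, hm]
    rfl
  rw [hL, IntMultRegLib.chi_comm, hJ, chi_eq_length_of_flat, hPg, sup_comm,
    DiagTorLib.length_quot_of_surjective _ (Γ.stalkMap_surjective x) _ _ rfl, Ideal.map_map]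
  simp only [Cyc.pullFun, Scheme.Hom.comp_apply]
  rw [if_pos (by rw [← hfx, hx, hy]), show single y (q (Γ x)) = 1 by rw [← hfx, single_self], one_mul,
    Scheme.Hom.stalkMap_comp]
  rfl

include gP hPd hP hN hY hd hq hΓ he hf hdim in
/-- The product with the graph is the flat pullback. -/
theorem interProd_graph (k : ℤ) (α : AlgebraicCycle Y ℤ) (hα : α ∈ Cyc.Zk Y δY k) :
    IntMult.IntersectProperly δP N (single (Γ (genericPoint X))) (Cyc.pullFun q δP δY d ⇑α) ∧
      ∀ z, IntMult.interProd δP N (single (Γ (genericPoint X))) (Cyc.pullFun q δP δY d ⇑α) z =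
        ∑ᶠ x ∈ {x : X | Γ x = z}, Cyc.pullFun (Γ ≫ q) δX δY e ⇑α x := by
  classical
  haveI := hP.1
  haveI := hY.1
  have hqle := CycLimLib.delta_le q hq hd
  have hfle := CycLimLib.delta_le (Γ ≫ q) hf he
  have hdα : ∀ y, α y ≠ 0 → δY y = k := fun y h => not_not.1 fun h' => h (hα y h')
  have hmono : ∀ {a b : Y}, a ⤳ b → δY b ≤ δY a := fun {a b} h => by
    by_cases e : a = b
    · rw [e]
    · exact ((hY.2.2 _ _ h e).1).le
  have hpull : ∀ u, Cyc.pullFun q δP δY d ⇑α u ≠ 0 → α (q u) ≠ 0 ∧ δP u = k + d := by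
    intro u h
    simp only [Cyc.pullFun] at h
    split_ifs at h with h'
    · exact ⟨left_ne_zero_of_mul h, by rw [h', hdα _ (left_ne_zero_of_mul h)]⟩
    · exact absurd rfl h
  have hgd : δP (Γ (genericPoint X)) = δX (genericPoint X) := hΓ _
  refine ⟨fun ξ η ζ hξ hη h1 h2 => ?_, fun z => ?_⟩
  · obtain rfl : ξ = Γ (genericPoint X) := not_not.1 fun h' => hξ (single_ne _ _ h')
    obtain ⟨x, rfl⟩ := Γ.isClosedEmbedding.isClosed_range.stableUnderSpecialization h1 ⟨_, rfl⟩
    obtain ⟨a1, a2⟩ := hpull η hη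
    have := hfle x
    rw [Scheme.Hom.comp_apply] at this
    have := hmono (h2.map q.continuous)
    have := hdα _ a1
    rw [hΓ, hΓ]
    omega
  by_cases hz : z ∈ Set.range Γ
  swap
  · rw [show {x : X | Γ x = z} = ∅ from Set.eq_empty_of_forall_notMem fun x hx => hz ⟨x, hx⟩, finsum_mem_empty]
    refine finsum_eq_zero_of_forall_eq_zero fun p => ?_
    by_cases h1 : p.1.1 = Γ (genericPoint X)
    · exact absurd (Γ.isClosedEmbedding.isClosed_range.stableUnderSpecialization (h1 ▸ p.2.1) ⟨_, rfl⟩) hz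
    · rw [single_ne _ _ h1, zero_mul, zero_mul]
  obtain ⟨x, rfl⟩ := hz
  rw [show {x' : X | Γ x' = Γ x} = {x} from Set.ext fun x' =>
    ⟨fun h => Γ.isClosedEmbedding.injective h, fun h => congrArg _ h⟩, finsum_mem_singleton]
  by_cases hx : δX x = k + e
  swap
  · rw [show Cyc.pullFun (Γ ≫ q) δX δY e ⇑α x = 0 from ?_]
    · refine finsum_eq_zero_of_forall_eq_zero fun p => ?_
      by_cases h1 : p.1.1 = Γ (genericPoint X)
      · by_cases h2 : Cyc.pullFun q δP δY d ⇑α p.1.2 = 0
        · rw [h2, mul_zero, zero_mul]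
        · obtain ⟨-, a2⟩ := hpull _ h2
          have h5 := p.2.2.2
          rw [h1, hgd, a2, hΓ] at h5
          omega
      · rw [single_ne _ _ h1, zero_mul, zero_mul]
    · simp only [Cyc.pullFun]
      split_ifs with h'
      · by_cases h2 : α ((Γ ≫ q) x) = 0
        · rw [h2, zero_mul]
        · rw [hdα _ h2] at h'
          exact absurd h' hx
      · rfl
  let S := (DiagTorLib.finite_generalizations α (q (Γ x))).toFinset
  have hS : ∀ y, y ∈ S ↔ y ⤳ q (Γ x) ∧ α y ≠ 0 := fun y => Set.Finite.mem_toFinset _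
  have hlin : ∀ u, u ⤳ Γ x → Cyc.pullFun q δP δY d ⇑α u = ∑ y ∈ S, α y * Cyc.pullFun q δP δY d (single y) u := by
    intro u hu
    simp only [Cyc.pullFun]
    split_ifs
    · rw [DiagTorLib.eq_sum_single ⇑α S (q u) fun h => (hS _).2 ⟨hu.map q.continuous, h⟩, Finset.sum_mul]
      exact Finset.sum_congr rfl fun y _ => mul_assoc _ _ _
    · simp
  have hfin : ∀ y ∈ S, {u | u ⤳ Γ x ∧ Cyc.pullFun q δP δY d (single y) u ≠ 0}.Finite := by
    intro y hy
    have hk := hdα y ((hS y).1 hy).2
    refine (DiagTorLib.finite_top_points δP hP ((IntMult.ptIdeal y).comap q) (k + d) (fun u hu => ?_) (Γ x)).subset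
      fun u hu => ?_
    · rw [Scheme.IdealSheafData.support_comap] at hu
      have := hmono ((DiagTorLib.mem_support_ptIdeal _ _).1 hu)
      have := hqle u
      omega
    · obtain ⟨hu1, hu2⟩ := hu
      simp only [Cyc.pullFun] at hu2
      split_ifs at hu2 with h'
      swap
      · exact absurd rfl hu2
      have h3 : q u = y := not_not.1 fun h'' => left_ne_zero_of_mul hu2 (single_ne _ _ h'')
      refine ⟨hu1, ?_, by rw [h', h3, hk]⟩
      rw [Scheme.IdealSheafData.support_comap]
      exact (DiagTorLib.mem_support_ptIdeal _ _).2 (by rw [h3])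
  rw [DiagTorLib.interProd_sum δP N (single (Γ (genericPoint X))) (Cyc.pullFun q δP δY d ⇑α) (Γ x)
    ({PUnit.unit} : Finset PUnit.{u + 1}) S (fun _ => (1 : ℤ)) ⇑α (fun _ => single (Γ (genericPoint X)))
    (fun y => Cyc.pullFun q δP δY d (single y))
    (fun _ _ => (Set.finite_singleton (Γ (genericPoint X))).subset fun v hv => not_not.1 fun h' => hv.2 (single_ne _ _ h'))
    hfin (fun v _ => by simp) hlin, Finset.sum_singleton]
  simp only [Cyc.pullFun, Scheme.Hom.comp_apply]
  split_ifs with hd'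
  · rw [DiagTorLib.eq_sum_single ⇑α S (q (Γ x)) fun h => (hS _).2 ⟨specializes_rfl, h⟩, Finset.sum_mul]
    refine Finset.sum_congr rfl fun y hy => ?_
    obtain ⟨hy1, hy2⟩ := (hS y).1 hy
    rw [one_mul, mul_assoc, interProd_graph_single gP δP hPd hP N hN δY hY q d hd hq Γ δX hΓ e he hf hdim k y
      (hdα y hy2) x hx hy1]
    simp only [Cyc.pullFun, Scheme.Hom.comp_apply, if_pos hd']
  · refine Finset.sum_eq_zero fun y hy => ?_
    obtain ⟨hy1, hy2⟩ := (hS y).1 hy
    rw [interProd_graph_single gP δP hPd hP N hN δY hY q d hd hq Γ δX hΓ e he hf hdim k y (hdα y hy2) x hx hy1]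
    simp only [Cyc.pullFun, Scheme.Hom.comp_apply, if_neg hd', mul_zero]

end GraphPullLib
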